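import Cfsg.Agent.Spor.HSpc.D0

set_option autoImplicit false
set_option maxRecDepth 100000000
set_option Elab.async false

namespace Cfsg.Agent.Spor.HSpc

theorem ok0 : Net.okb 11 n0 = true := by decide +kernel

theorem ok1 : Net.okb 11 n1 = true := by decide +kernel

theorem ok2 : Net.okb 11 n2 = true := by decide +kernel

theorem rel0 : T.rel 11 [1, 1] 0 11 = true := by decide +kernel

theorem rel1 : T.rel 11 [2, 2] 0 11 = true := by decide +kernel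

theorem rel2 : T.rel 11 [3, 3] 0 11 = true := by decide +kernel

theorem rel3 : T.rel 11 [1, 3, 1, 3] 0 11 = true := by decide +kernel

theorem rel4 : T.rel 11 [1, 2, 1, 2, 1, 2, 1, 2] 0 11 = true := by decide +kernel

theorem rel5 : T.rel 11 [1, 2, 3, 2, 3, 2, 1, 2, 3, 2, 3, 2, 1, 3, 2, 3, 2, 3, 2, 1, 2, 3, 2, 3, 2] 0 11 = true := by decide +kernel

theorem rel6 : T.rel 11 [1, 2, 1, 2, 3, 2, 1, 2, 3, 2, 1, 2, 3, 2, 1, 2, 3, 2, 1, 2, 3] 0 11 = true := by decide +kernel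

theorem hcov : T.treeCov (ones 1440) L 1 = true := by decide +kernel

theorem hg : lall (fun z => band (memL L z) (band (sub (ones 1440) (T.let z).cl) (T.closed (ones 1440) z))) gs = true := by decide +kernel

theorem rot1_1 : T.rot 1 [1] (sel (ones 1440) ip1 1) = true := by decide +kernel

theorem rot1_1r : band (Rule.ok (2 * 3) EX RL ⟨1 :: [1], [], 4, false⟩) (lall (memL L) [1]) = true := by decide +kernel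

theorem rot1_2 : T.rot 1 [3, 1, 3] (sel (ones 1440) ip1 2) = true := by decide +kernel

theorem rot1_2r : band (Rule.ok (2 * 3) EX RL ⟨1 :: [3, 1, 3], [], 0, true⟩) (lall (memL L) [3, 1, 3]) = true := by decide +kernel

theorem rot1_3 : T.rot 1 [2, 1, 2, 1, 2, 1, 2] (sel (ones 1440) ip1 3) = true := by decide +kernel

theorem rot1_3r : band (Rule.ok (2 * 3) EX RL ⟨1 :: [2, 1, 2, 1, 2, 1, 2], [], 1, true⟩) (lall (memL L) [2, 1, 2, 1, 2, 1, 2]) = true := by decide +kernel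

theorem rot1_4 : T.rot 1 [2, 1, 2, 3, 2, 1, 2, 3, 2, 1, 2, 3, 2, 1, 2, 3, 2, 1, 2, 3] (sel (ones 1440) ip1 4) = true := by decide +kernel

theorem rot1_4r : band (Rule.ok (2 * 3) EX RL ⟨1 :: [2, 1, 2, 3, 2, 1, 2, 3, 2, 1, 2, 3, 2, 1, 2, 3, 2, 1, 2, 3], [], 3, true⟩) (lall (memL L) [2, 1, 2, 3, 2, 1, 2, 3, 2, 1, 2, 3, 2, 1, 2, 3, 2, 1, 2, 3]) = true := by decide +kernel

theorem rot1_5 : T.rot 1 [2, 3, 2, 1, 2, 3, 2, 1, 2, 3, 2, 1, 2, 3, 2, 1, 2, 3, 1, 2] (sel (ones 1440) ip1 5) = true := by decide +kernel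

theorem rot1_5r : band (Rule.ok (2 * 3) EX RL ⟨1 :: [2, 3, 2, 1, 2, 3, 2, 1, 2, 3, 2, 1, 2, 3, 2, 1, 2, 3, 1, 2], [0, 2], 3, true⟩) (lall (memL L) [2, 3, 2, 1, 2, 3, 2, 1, 2, 3, 2, 1, 2, 3, 2, 1, 2, 3, 1, 2]) = true := by decide +kernel

theorem rot1_6 : T.rot 1 [2, 3, 2, 1, 2, 3, 2, 1, 2, 3, 2, 1, 2, 3, 1, 2, 1, 2, 3, 2] (sel (ones 1440) ip1 6) = true := by decide +kernel

theorem rot1_6r : band (Rule.ok (2 * 3) EX RL ⟨1 :: [2, 3, 2, 1, 2, 3, 2, 1, 2, 3, 2, 1, 2, 3, 1, 2, 1, 2, 3, 2], [0, 2, 0, 2, 4, 2], 3, true⟩) (lall (memL L) [2, 3, 2, 1, 2, 3, 2, 1, 2, 3, 2, 1, 2, 3, 1, 2, 1, 2, 3, 2]) = true := by decide +kernel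

theorem rot1_7 : T.rot 1 [2, 3, 2, 1, 2, 3, 2, 1, 2, 3, 1, 2, 1, 2, 3, 2, 1, 2, 3, 2] (sel (ones 1440) ip1 7) = true := by decide +kernel

theorem rot1_7r : band (Rule.ok (2 * 3) EX RL ⟨1 :: [2, 3, 2, 1, 2, 3, 2, 1, 2, 3, 1, 2, 1, 2, 3, 2, 1, 2, 3, 2], [0, 2, 0, 2, 4, 2, 0, 2, 4, 2], 3, true⟩) (lall (memL L) [2, 3, 2, 1, 2, 3, 2, 1, 2, 3, 1, 2, 1, 2, 3, 2, 1, 2, 3, 2]) = true := by decide +kernel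

theorem rot1_8 : T.rot 1 [2, 3, 2, 1, 2, 3, 1, 2, 1, 2, 3, 2, 1, 2, 3, 2, 1, 2, 3, 2] (sel (ones 1440) ip1 8) = true := by decide +kernel

theorem rot1_8r : band (Rule.ok (2 * 3) EX RL ⟨1 :: [2, 3, 2, 1, 2, 3, 1, 2, 1, 2, 3, 2, 1, 2, 3, 2, 1, 2, 3, 2], [4, 2, 0, 2, 4, 2, 0], 3, true⟩) (lall (memL L) [2, 3, 2, 1, 2, 3, 1, 2, 1, 2, 3, 2, 1, 2, 3, 2, 1, 2, 3, 2]) = true := by decide +kernel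

theorem rot1_9 : T.rot 1 [2, 3, 1, 2, 1, 2, 3, 2, 1, 2, 3, 2, 1, 2, 3, 2, 1, 2, 3, 2] (sel (ones 1440) ip1 9) = true := by decide +kernel

theorem rot1_9r : band (Rule.ok (2 * 3) EX RL ⟨1 :: [2, 3, 1, 2, 1, 2, 3, 2, 1, 2, 3, 2, 1, 2, 3, 2, 1, 2, 3, 2], [4, 2, 0], 3, true⟩) (lall (memL L) [2, 3, 1, 2, 1, 2, 3, 2, 1, 2, 3, 2, 1, 2, 3, 2, 1, 2, 3, 2]) = true := by decide +kernel

theorem rot1_10 : T.rot 1 [2, 3, 2, 1, 2, 3, 2, 1, 2, 3, 2, 1, 2, 3, 2, 1, 2, 1, 3, 2] (sel (ones 1440) ip1 10) = true := by decide +kernel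

theorem rot1_10r : band (Rule.ok (2 * 3) EX RL ⟨1 :: [2, 3, 2, 1, 2, 3, 2, 1, 2, 3, 2, 1, 2, 3, 2, 1, 2, 1, 3, 2], [4, 2], 3, false⟩) (lall (memL L) [2, 3, 2, 1, 2, 3, 2, 1, 2, 3, 2, 1, 2, 3, 2, 1, 2, 1, 3, 2]) = true := by decide +kernel

theorem rot1_11 : T.rot 1 [2, 3, 2, 1, 2, 3, 2, 1, 2, 1, 3, 2, 1, 2, 3, 2, 1, 2, 3, 2] (sel (ones 1440) ip1 11) = true := by decide +kernel

theorem rot1_11r : band (Rule.ok (2 * 3) EX RL ⟨1 :: [2, 3, 2, 1, 2, 3, 2, 1, 2, 1, 3, 2, 1, 2, 3, 2, 1, 2, 3, 2], [4, 2, 0, 2, 4, 2, 0, 2, 4, 2], 3, false⟩) (lall (memL L) [2, 3, 2, 1, 2, 3, 2, 1, 2, 1, 3, 2, 1, 2, 3, 2, 1, 2, 3, 2]) = true := by decide +kernel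

theorem rot1_12 : T.rot 1 [3, 2, 1, 2, 3, 2, 1, 2, 3, 2, 1, 2, 3, 2, 1, 2, 3, 2, 1, 2] (sel (ones 1440) ip1 12) = true := by decide +kernel

theorem rot1_12r : band (Rule.ok (2 * 3) EX RL ⟨1 :: [3, 2, 1, 2, 3, 2, 1, 2, 3, 2, 1, 2, 3, 2, 1, 2, 3, 2, 1, 2], [0], 3, false⟩) (lall (memL L) [3, 2, 1, 2, 3, 2, 1, 2, 3, 2, 1, 2, 3, 2, 1, 2, 3, 2, 1, 2]) = true := by decide +kernel

theorem rot1_13 : T.rot 1 [2, 3, 2, 3, 2, 1, 2, 3, 2, 3, 2, 1, 3, 2, 3, 2, 3, 2, 1, 2, 3, 2, 3, 2] (sel (ones 1440) ip1 13) = true := by decide +kernel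

theorem rot1_13r : band (Rule.ok (2 * 3) EX RL ⟨1 :: [2, 3, 2, 3, 2, 1, 2, 3, 2, 3, 2, 1, 3, 2, 3, 2, 3, 2, 1, 2, 3, 2, 3, 2], [], 2, true⟩) (lall (memL L) [2, 3, 2, 3, 2, 1, 2, 3, 2, 3, 2, 1, 3, 2, 3, 2, 3, 2, 1, 2, 3, 2, 3, 2]) = true := by decide +kernel

theorem rot1_14 : T.rot 1 [2, 3, 2, 3, 2, 1, 3, 2, 3, 2, 3, 2, 1, 2, 3, 2, 3, 2, 1, 2, 3, 2, 3, 2] (sel (ones 1440) ip1 14) = true := by decide +kernel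

theorem rot1_14r : band (Rule.ok (2 * 3) EX RL ⟨1 :: [2, 3, 2, 3, 2, 1, 3, 2, 3, 2, 3, 2, 1, 2, 3, 2, 3, 2, 1, 2, 3, 2, 3, 2], [0, 2, 4, 2, 4, 2], 2, true⟩) (lall (memL L) [2, 3, 2, 3, 2, 1, 3, 2, 3, 2, 3, 2, 1, 2, 3, 2, 3, 2, 1, 2, 3, 2, 3, 2]) = true := by decide +kernel

theorem rot1_15 : T.rot 1 [3, 2, 3, 2, 3, 2, 1, 2, 3, 2, 3, 2, 1, 2, 3, 2, 3, 2, 1, 2, 3, 2, 3, 2] (sel (ones 1440) ip1 15) = true := by decide +kernel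

theorem rot1_15r : band (Rule.ok (2 * 3) EX RL ⟨1 :: [3, 2, 3, 2, 3, 2, 1, 2, 3, 2, 3, 2, 1, 2, 3, 2, 3, 2, 1, 2, 3, 2, 3, 2], [0, 2, 4, 2, 4, 2, 0, 2, 4, 2, 4, 2], 2, true⟩) (lall (memL L) [3, 2, 3, 2, 3, 2, 1, 2, 3, 2, 3, 2, 1, 2, 3, 2, 3, 2, 1, 2, 3, 2, 3, 2]) = true := by decide +kernel

theorem rot1_16 : T.rot 1 [2, 3, 2, 3, 2, 1, 2, 3, 2, 3, 2, 1, 2, 3, 2, 3, 2, 1, 3, 2, 3, 2, 3, 2] (sel (ones 1440) ip1 16) = true := by decide +kernel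

theorem rot1_16r : band (Rule.ok (2 * 3) EX RL ⟨1 :: [2, 3, 2, 3, 2, 1, 2, 3, 2, 3, 2, 1, 2, 3, 2, 3, 2, 1, 3, 2, 3, 2, 3, 2], [2, 4, 2, 4, 2, 0], 2, true⟩) (lall (memL L) [2, 3, 2, 3, 2, 1, 2, 3, 2, 3, 2, 1, 2, 3, 2, 3, 2, 1, 3, 2, 3, 2, 3, 2]) = true := by decide +kernel

theorem rot1_17 : T.rot 1 [2, 3, 2, 3, 2, 3, 1, 2, 3, 2, 3, 2, 1, 2, 3, 2, 3, 2, 1, 2, 3, 2, 3, 2] (sel (ones 1440) ip1 17) = true := by decide +kernel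

theorem rot1_17r : band (Rule.ok (2 * 3) EX RL ⟨1 :: [2, 3, 2, 3, 2, 3, 1, 2, 3, 2, 3, 2, 1, 2, 3, 2, 3, 2, 1, 2, 3, 2, 3, 2], [2, 4, 2, 4, 2], 2, false⟩) (lall (memL L) [2, 3, 2, 3, 2, 3, 1, 2, 3, 2, 3, 2, 1, 2, 3, 2, 3, 2, 1, 2, 3, 2, 3, 2]) = true := by decide +kernel

theorem rot1_18 : T.rot 1 [2, 3, 2, 3, 2, 1, 2, 3, 2, 3, 2, 1, 2, 3, 2, 3, 2, 1, 2, 3, 2, 3, 2, 3] (sel (ones 1440) ip1 18) = true := by decide +kernel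

theorem rot1_18r : band (Rule.ok (2 * 3) EX RL ⟨1 :: [2, 3, 2, 3, 2, 1, 2, 3, 2, 3, 2, 1, 2, 3, 2, 3, 2, 1, 2, 3, 2, 3, 2, 3], [2, 4, 2, 4, 2, 0, 2, 4, 2, 4, 2, 4], 2, false⟩) (lall (memL L) [2, 3, 2, 3, 2, 1, 2, 3, 2, 3, 2, 1, 2, 3, 2, 3, 2, 1, 2, 3, 2, 3, 2, 3]) = true := by decide +kernel

theorem rot1_19 : T.rot 1 [2, 3, 2, 3, 2, 1, 2, 3, 2, 3, 2, 1, 2, 3, 2, 3, 2, 3, 1, 2, 3, 2, 3, 2] (sel (ones 1440) ip1 19) = true := by decide +kernel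

theorem rot1_19r : band (Rule.ok (2 * 3) EX RL ⟨1 :: [2, 3, 2, 3, 2, 1, 2, 3, 2, 3, 2, 1, 2, 3, 2, 3, 2, 3, 1, 2, 3, 2, 3, 2], [0, 2, 4, 2, 4, 2, 0], 2, false⟩) (lall (memL L) [2, 3, 2, 3, 2, 1, 2, 3, 2, 3, 2, 1, 2, 3, 2, 3, 2, 3, 1, 2, 3, 2, 3, 2]) = true := by decide +kernel

theorem rot1_20 : T.rot 1 [2, 3, 2, 3, 2, 1, 2, 3, 2, 3, 2, 3, 1, 2, 3, 2, 3, 2, 1, 2, 3, 2, 3, 2] (sel (ones 1440) ip1 20) = true := by decide +kernel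

theorem rot1_20r : band (Rule.ok (2 * 3) EX RL ⟨1 :: [2, 3, 2, 3, 2, 1, 2, 3, 2, 3, 2, 3, 1, 2, 3, 2, 3, 2, 1, 2, 3, 2, 3, 2], [0], 2, false⟩) (lall (memL L) [2, 3, 2, 3, 2, 1, 2, 3, 2, 3, 2, 3, 1, 2, 3, 2, 3, 2, 1, 2, 3, 2, 3, 2]) = true := by decide +kernel

theorem cov1 : T.cover 1 [(sel (ones 1440) ip1 1), (sel (ones 1440) ip1 2), (sel (ones 1440) ip1 3), (sel (ones 1440) ip1 4), (sel (ones 1440) ip1 5), (sel (ones 1440) ip1 6), (sel (ones 1440) ip1 7), (sel (ones 1440) ip1 8), (sel (ones 1440) ip1 9), (sel (ones 1440) ip1 10), (sel (ones 1440) ip1 11), (sel (ones 1440) ip1 12), (sel (ones 1440) ip1 13), (sel (ones 1440) ip1 14), (sel (ones 1440) ip1 15), (sel (ones 1440) ip1 16), (sel (ones 1440) ip1 17), (sel (ones 1440) ip1 18), (sel (ones 1440) ip1 19), (sel (ones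 1440) ip1 20)] = true := by decide +kernel

theorem tl1 : T.treeLt 11 1 = true := by decide +kernel

theorem rot2_1 : T.rot 2 [2] (sel (ones 1440) ip2 1) = true := by decide +kernel

theorem rot2_1r : band (Rule.ok (2 * 3) EX RL ⟨2 :: [2], [], 4, false⟩) (lall (memL L) [2]) = true := by decide +kernel

theorem rot2_2 : T.rot 2 [1, 2, 1, 2, 1, 2, 1] (sel (ones 1440) ip2 2) = true := by decide +kernel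

theorem rot2_2r : band (Rule.ok (2 * 3) EX RL ⟨2 :: [1, 2, 1, 2, 1, 2, 1], [], 1, false⟩) (lall (memL L) [1, 2, 1, 2, 1, 2, 1]) = true := by decide +kernel

theorem rot2_3 : T.rot 2 [1, 2, 3, 2, 1, 2, 3, 2, 1, 2, 3, 2, 1, 2, 3, 2, 1, 2, 3, 1] (sel (ones 1440) ip2 3) = true := by decide +kernel

theorem rot2_3r : band (Rule.ok (2 * 3) EX RL ⟨2 :: [1, 2, 3, 2, 1, 2, 3, 2, 1, 2, 3, 2, 1, 2, 3, 2, 1, 2, 3, 1], [0], 3, true⟩) (lall (memL L) [1, 2, 3, 2, 1, 2, 3, 2, 1, 2, 3, 2, 1, 2, 3, 2, 1, 2, 3, 1]) = true := by decide +kernel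

theorem rot2_4 : T.rot 2 [3, 2, 1, 2, 3, 2, 1, 2, 3, 2, 1, 2, 3, 2, 1, 2, 3, 1, 2, 1] (sel (ones 1440) ip2 4) = true := by decide +kernel

theorem rot2_4r : band (Rule.ok (2 * 3) EX RL ⟨2 :: [3, 2, 1, 2, 3, 2, 1, 2, 3, 2, 1, 2, 3, 2, 1, 2, 3, 1, 2, 1], [0, 2, 0], 3, true⟩) (lall (memL L) [3, 2, 1, 2, 3, 2, 1, 2, 3, 2, 1, 2, 3, 2, 1, 2, 3, 1, 2, 1]) = true := by decide +kernel

theorem rot2_5 : T.rot 2 [1, 2, 3, 2, 1, 2, 3, 2, 1, 2, 3, 2, 1, 2, 3, 1, 2, 1, 2, 3] (sel (ones 1440) ip2 5) = true := by decide +kernel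

theorem rot2_5r : band (Rule.ok (2 * 3) EX RL ⟨2 :: [1, 2, 3, 2, 1, 2, 3, 2, 1, 2, 3, 2, 1, 2, 3, 1, 2, 1, 2, 3], [0, 2, 0, 2, 4], 3, true⟩) (lall (memL L) [1, 2, 3, 2, 1, 2, 3, 2, 1, 2, 3, 2, 1, 2, 3, 1, 2, 1, 2, 3]) = true := by decide +kernel

theorem rot2_6 : T.rot 2 [3, 2, 1, 2, 3, 2, 1, 2, 3, 2, 1, 2, 3, 1, 2, 1, 2, 3, 2, 1] (sel (ones 1440) ip2 6) = true := by decide +kernel

theorem rot2_6r : band (Rule.ok (2 * 3) EX RL ⟨2 :: [3, 2, 1, 2, 3, 2, 1, 2, 3, 2, 1, 2, 3, 1, 2, 1, 2, 3, 2, 1], [0, 2, 0, 2, 4, 2, 0], 3, true⟩) (lall (memL L) [3, 2, 1, 2, 3, 2, 1, 2, 3, 2, 1, 2, 3, 1, 2, 1, 2, 3, 2, 1]) = true := by decide +kernel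

theorem rot2_7 : T.rot 2 [1, 2, 3, 2, 1, 2, 3, 2, 1, 2, 3, 1, 2, 1, 2, 3, 2, 1, 2, 3] (sel (ones 1440) ip2 7) = true := by decide +kernel

theorem rot2_7r : band (Rule.ok (2 * 3) EX RL ⟨2 :: [1, 2, 3, 2, 1, 2, 3, 2, 1, 2, 3, 1, 2, 1, 2, 3, 2, 1, 2, 3], [0, 2, 0, 2, 4, 2, 0, 2, 4], 3, true⟩) (lall (memL L) [1, 2, 3, 2, 1, 2, 3, 2, 1, 2, 3, 1, 2, 1, 2, 3, 2, 1, 2, 3]) = true := by decide +kernel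

theorem rot2_8 : T.rot 2 [3, 2, 1, 2, 3, 2, 1, 2, 3, 1, 2, 1, 2, 3, 2, 1, 2, 3, 2, 1] (sel (ones 1440) ip2 8) = true := by decide +kernel

theorem rot2_8r : band (Rule.ok (2 * 3) EX RL ⟨2 :: [3, 2, 1, 2, 3, 2, 1, 2, 3, 1, 2, 1, 2, 3, 2, 1, 2, 3, 2, 1], [4, 2, 0, 2, 4, 2, 0, 2, 4, 2], 3, true⟩) (lall (memL L) [3, 2, 1, 2, 3, 2, 1, 2, 3, 1, 2, 1, 2, 3, 2, 1, 2, 3, 2, 1]) = true := by decide +kernel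

theorem rot2_9 : T.rot 2 [1, 2, 3, 2, 1, 2, 3, 1, 2, 1, 2, 3, 2, 1, 2, 3, 2, 1, 2, 3] (sel (ones 1440) ip2 9) = true := by decide +kernel

theorem rot2_9r : band (Rule.ok (2 * 3) EX RL ⟨2 :: [1, 2, 3, 2, 1, 2, 3, 1, 2, 1, 2, 3, 2, 1, 2, 3, 2, 1, 2, 3], [4, 2, 0, 2, 4, 2, 0, 2], 3, true⟩) (lall (memL L) [1, 2, 3, 2, 1, 2, 3, 1, 2, 1, 2, 3, 2, 1, 2, 3, 2, 1, 2, 3]) = true := by decide +kernel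

theorem rot2_10 : T.rot 2 [3, 2, 1, 2, 3, 1, 2, 1, 2, 3, 2, 1, 2, 3, 2, 1, 2, 3, 2, 1] (sel (ones 1440) ip2 10) = true := by decide +kernel

theorem rot2_10r : band (Rule.ok (2 * 3) EX RL ⟨2 :: [3, 2, 1, 2, 3, 1, 2, 1, 2, 3, 2, 1, 2, 3, 2, 1, 2, 3, 2, 1], [4, 2, 0, 2, 4, 2], 3, true⟩) (lall (memL L) [3, 2, 1, 2, 3, 1, 2, 1, 2, 3, 2, 1, 2, 3, 2, 1, 2, 3, 2, 1]) = true := by decide +kernel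

theorem rot2_11 : T.rot 2 [1, 2, 3, 1, 2, 1, 2, 3, 2, 1, 2, 3, 2, 1, 2, 3, 2, 1, 2, 3] (sel (ones 1440) ip2 11) = true := by decide +kernel

theorem rot2_11r : band (Rule.ok (2 * 3) EX RL ⟨2 :: [1, 2, 3, 1, 2, 1, 2, 3, 2, 1, 2, 3, 2, 1, 2, 3, 2, 1, 2, 3], [4, 2, 0, 2], 3, true⟩) (lall (memL L) [1, 2, 3, 1, 2, 1, 2, 3, 2, 1, 2, 3, 2, 1, 2, 3, 2, 1, 2, 3]) = true := by decide +kernel

theorem rot2_12 : T.rot 2 [3, 1, 2, 1, 2, 3, 2, 1, 2, 3, 2, 1, 2, 3, 2, 1, 2, 3, 2, 1] (sel (ones 1440) ip2 12) = true := by decide +kernel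

theorem rot2_12r : band (Rule.ok (2 * 3) EX RL ⟨2 :: [3, 1, 2, 1, 2, 3, 2, 1, 2, 3, 2, 1, 2, 3, 2, 1, 2, 3, 2, 1], [4, 2], 3, true⟩) (lall (memL L) [3, 1, 2, 1, 2, 3, 2, 1, 2, 3, 2, 1, 2, 3, 2, 1, 2, 3, 2, 1]) = true := by decide +kernel

theorem rot2_13 : T.rot 2 [1, 2, 3, 2, 1, 2, 3, 2, 1, 2, 3, 2, 1, 2, 3, 2, 1, 2, 1, 3] (sel (ones 1440) ip2 13) = true := by decide +kernel

theorem rot2_13r : band (Rule.ok (2 * 3) EX RL ⟨2 :: [1, 2, 3, 2, 1, 2, 3, 2, 1, 2, 3, 2, 1, 2, 3, 2, 1, 2, 1, 3], [4], 3, false⟩) (lall (memL L) [1, 2, 3, 2, 1, 2, 3, 2, 1, 2, 3, 2, 1, 2, 3, 2, 1, 2, 1, 3]) = true := by decide +kernel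

theorem rot2_14 : T.rot 2 [3, 2, 1, 2, 3, 2, 1, 2, 3, 2, 1, 2, 3, 2, 1, 2, 1, 3, 2, 1] (sel (ones 1440) ip2 14) = true := by decide +kernel

theorem rot2_14r : band (Rule.ok (2 * 3) EX RL ⟨2 :: [3, 2, 1, 2, 3, 2, 1, 2, 3, 2, 1, 2, 3, 2, 1, 2, 1, 3, 2, 1], [4, 2, 0], 3, false⟩) (lall (memL L) [3, 2, 1, 2, 3, 2, 1, 2, 3, 2, 1, 2, 3, 2, 1, 2, 1, 3, 2, 1]) = true := by decide +kernel

theorem rot2_15 : T.rot 2 [3, 2, 1, 2, 3, 2, 1, 2, 3, 2, 1, 2, 1, 3, 2, 1, 2, 3, 2, 1] (sel (ones 1440) ip2 15) = true := by decide +kernel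

theorem rot2_15r : band (Rule.ok (2 * 3) EX RL ⟨2 :: [3, 2, 1, 2, 3, 2, 1, 2, 3, 2, 1, 2, 1, 3, 2, 1, 2, 3, 2, 1], [4, 2, 0, 2, 4, 2, 0], 3, false⟩) (lall (memL L) [3, 2, 1, 2, 3, 2, 1, 2, 3, 2, 1, 2, 1, 3, 2, 1, 2, 3, 2, 1]) = true := by decide +kernel

theorem rot2_16 : T.rot 2 [1, 2, 3, 2, 1, 2, 3, 2, 1, 2, 1, 3, 2, 1, 2, 3, 2, 1, 2, 3] (sel (ones 1440) ip2 16) = true := by decide +kernel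

theorem rot2_16r : band (Rule.ok (2 * 3) EX RL ⟨2 :: [1, 2, 3, 2, 1, 2, 3, 2, 1, 2, 1, 3, 2, 1, 2, 3, 2, 1, 2, 3], [4, 2, 0, 2, 4, 2, 0, 2, 4], 3, false⟩) (lall (memL L) [1, 2, 3, 2, 1, 2, 3, 2, 1, 2, 1, 3, 2, 1, 2, 3, 2, 1, 2, 3]) = true := by decide +kernel

theorem rot2_17 : T.rot 2 [1, 3, 2, 1, 2, 3, 2, 1, 2, 3, 2, 1, 2, 3, 2, 1, 2, 3, 2, 1] (sel (ones 1440) ip2 17) = true := by decide +kernel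

theorem rot2_17r : band (Rule.ok (2 * 3) EX RL ⟨2 :: [1, 3, 2, 1, 2, 3, 2, 1, 2, 3, 2, 1, 2, 3, 2, 1, 2, 3, 2, 1], [0, 2], 3, false⟩) (lall (memL L) [1, 3, 2, 1, 2, 3, 2, 1, 2, 3, 2, 1, 2, 3, 2, 1, 2, 3, 2, 1]) = true := by decide +kernel

theorem rot2_18 : T.rot 2 [3, 2, 3, 2, 1, 2, 3, 2, 3, 2, 1, 3, 2, 3, 2, 3, 2, 1, 2, 3, 2, 3, 2, 1] (sel (ones 1440) ip2 18) = true := by decide +kernel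

theorem rot2_18r : band (Rule.ok (2 * 3) EX RL ⟨2 :: [3, 2, 3, 2, 1, 2, 3, 2, 3, 2, 1, 3, 2, 3, 2, 3, 2, 1, 2, 3, 2, 3, 2, 1], [0], 2, true⟩) (lall (memL L) [3, 2, 3, 2, 1, 2, 3, 2, 3, 2, 1, 3, 2, 3, 2, 3, 2, 1, 2, 3, 2, 3, 2, 1]) = true := by decide +kernel

theorem rot2_19 : T.rot 2 [3, 2, 1, 2, 3, 2, 3, 2, 1, 3, 2, 3, 2, 3, 2, 1, 2, 3, 2, 3, 2, 1, 2, 3] (sel (ones 1440) ip2 19) = true := by decide +kernel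

theorem rot2_19r : band (Rule.ok (2 * 3) EX RL ⟨2 :: [3, 2, 1, 2, 3, 2, 3, 2, 1, 3, 2, 3, 2, 3, 2, 1, 2, 3, 2, 3, 2, 1, 2, 3], [0, 2, 4], 2, true⟩) (lall (memL L) [3, 2, 1, 2, 3, 2, 3, 2, 1, 3, 2, 3, 2, 3, 2, 1, 2, 3, 2, 3, 2, 1, 2, 3]) = true := by decide +kernel

theorem rot2_20 : T.rot 2 [1, 2, 3, 2, 3, 2, 1, 3, 2, 3, 2, 3, 2, 1, 2, 3, 2, 3, 2, 1, 2, 3, 2, 3] (sel (ones 1440) ip2 20) = true := by decide +kernel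

theorem rot2_20r : band (Rule.ok (2 * 3) EX RL ⟨2 :: [1, 2, 3, 2, 3, 2, 1, 3, 2, 3, 2, 3, 2, 1, 2, 3, 2, 3, 2, 1, 2, 3, 2, 3], [0, 2, 4, 2, 4], 2, true⟩) (lall (memL L) [1, 2, 3, 2, 3, 2, 1, 3, 2, 3, 2, 3, 2, 1, 2, 3, 2, 3, 2, 1, 2, 3, 2, 3]) = true := by decide +kernel

theorem rot2_21 : T.rot 2 [3, 2, 3, 2, 1, 3, 2, 3, 2, 3, 2, 1, 2, 3, 2, 3, 2, 1, 2, 3, 2, 3, 2, 1] (sel (ones 1440) ip2 21) = true := by decide +kernel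

theorem rot2_21r : band (Rule.ok (2 * 3) EX RL ⟨2 :: [3, 2, 3, 2, 1, 3, 2, 3, 2, 3, 2, 1, 2, 3, 2, 3, 2, 1, 2, 3, 2, 3, 2, 1], [0, 2, 4, 2, 4, 2, 0], 2, true⟩) (lall (memL L) [3, 2, 3, 2, 1, 3, 2, 3, 2, 3, 2, 1, 2, 3, 2, 3, 2, 1, 2, 3, 2, 3, 2, 1]) = true := by decide +kernel

theorem rot2_22 : T.rot 2 [3, 2, 1, 3, 2, 3, 2, 3, 2, 1, 2, 3, 2, 3, 2, 1, 2, 3, 2, 3, 2, 1, 2, 3] (sel (ones 1440) ip2 22) = true := by decide +kernel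

theorem rot2_22r : band (Rule.ok (2 * 3) EX RL ⟨2 :: [3, 2, 1, 3, 2, 3, 2, 3, 2, 1, 2, 3, 2, 3, 2, 1, 2, 3, 2, 3, 2, 1, 2, 3], [0, 2, 4, 2, 4, 2, 0, 2, 4], 2, true⟩) (lall (memL L) [3, 2, 1, 3, 2, 3, 2, 3, 2, 1, 2, 3, 2, 3, 2, 1, 2, 3, 2, 3, 2, 1, 2, 3]) = true := by decide +kernel

theorem rot2_23 : T.rot 2 [1, 3, 2, 3, 2, 3, 2, 1, 2, 3, 2, 3, 2, 1, 2, 3, 2, 3, 2, 1, 2, 3, 2, 3] (sel (ones 1440) ip2 23) = true := by decide +kernel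

theorem rot2_23r : band (Rule.ok (2 * 3) EX RL ⟨2 :: [1, 3, 2, 3, 2, 3, 2, 1, 2, 3, 2, 3, 2, 1, 2, 3, 2, 3, 2, 1, 2, 3, 2, 3], [0, 2, 4, 2, 4, 2, 0, 2, 4, 2, 4], 2, true⟩) (lall (memL L) [1, 3, 2, 3, 2, 3, 2, 1, 2, 3, 2, 3, 2, 1, 2, 3, 2, 3, 2, 1, 2, 3, 2, 3]) = true := by decide +kernel

theorem rot2_24 : T.rot 2 [3, 2, 3, 2, 1, 2, 3, 2, 3, 2, 1, 2, 3, 2, 3, 2, 1, 2, 3, 2, 3, 2, 1, 3] (sel (ones 1440) ip2 24) = true := by decide +kernel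

theorem rot2_24r : band (Rule.ok (2 * 3) EX RL ⟨2 :: [3, 2, 3, 2, 1, 2, 3, 2, 3, 2, 1, 2, 3, 2, 3, 2, 1, 2, 3, 2, 3, 2, 1, 3], [2, 4, 2, 4, 2, 0, 2, 4, 2, 4, 2], 2, true⟩) (lall (memL L) [3, 2, 3, 2, 1, 2, 3, 2, 3, 2, 1, 2, 3, 2, 3, 2, 1, 2, 3, 2, 3, 2, 1, 3]) = true := by decide +kernel

theorem rot2_25 : T.rot 2 [3, 2, 1, 2, 3, 2, 3, 2, 1, 2, 3, 2, 3, 2, 1, 2, 3, 2, 3, 2, 1, 3, 2, 3] (sel (ones 1440) ip2 25) = true := by decide +kernel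

theorem rot2_25r : band (Rule.ok (2 * 3) EX RL ⟨2 :: [3, 2, 1, 2, 3, 2, 3, 2, 1, 2, 3, 2, 3, 2, 1, 2, 3, 2, 3, 2, 1, 3, 2, 3], [2, 4, 2, 4, 2, 0, 2, 4, 2], 2, true⟩) (lall (memL L) [3, 2, 1, 2, 3, 2, 3, 2, 1, 2, 3, 2, 3, 2, 1, 2, 3, 2, 3, 2, 1, 3, 2, 3]) = true := by decide +kernel

theorem rot2_26 : T.rot 2 [1, 2, 3, 2, 3, 2, 1, 2, 3, 2, 3, 2, 1, 2, 3, 2, 3, 2, 1, 3, 2, 3, 2, 3] (sel (ones 1440) ip2 26) = true := by decide +kernel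

theorem rot2_26r : band (Rule.ok (2 * 3) EX RL ⟨2 :: [1, 2, 3, 2, 3, 2, 1, 2, 3, 2, 3, 2, 1, 2, 3, 2, 3, 2, 1, 3, 2, 3, 2, 3], [2, 4, 2, 4, 2, 0, 2], 2, true⟩) (lall (memL L) [1, 2, 3, 2, 3, 2, 1, 2, 3, 2, 3, 2, 1, 2, 3, 2, 3, 2, 1, 3, 2, 3, 2, 3]) = true := by decide +kernel

theorem rot2_27 : T.rot 2 [3, 2, 3, 2, 1, 2, 3, 2, 3, 2, 1, 2, 3, 2, 3, 2, 1, 3, 2, 3, 2, 3, 2, 1] (sel (ones 1440) ip2 27) = true := by decide +kernel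

theorem rot2_27r : band (Rule.ok (2 * 3) EX RL ⟨2 :: [3, 2, 3, 2, 1, 2, 3, 2, 3, 2, 1, 2, 3, 2, 3, 2, 1, 3, 2, 3, 2, 3, 2, 1], [2, 4, 2, 4, 2], 2, true⟩) (lall (memL L) [3, 2, 3, 2, 1, 2, 3, 2, 3, 2, 1, 2, 3, 2, 3, 2, 1, 3, 2, 3, 2, 3, 2, 1]) = true := by decide +kernel

theorem rot2_28 : T.rot 2 [3, 2, 1, 2, 3, 2, 3, 2, 1, 2, 3, 2, 3, 2, 1, 3, 2, 3, 2, 3, 2, 1, 2, 3] (sel (ones 1440) ip2 28) = true := by decide +kernel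

theorem rot2_28r : band (Rule.ok (2 * 3) EX RL ⟨2 :: [3, 2, 1, 2, 3, 2, 3, 2, 1, 2, 3, 2, 3, 2, 1, 3, 2, 3, 2, 3, 2, 1, 2, 3], [2, 4, 2], 2, true⟩) (lall (memL L) [3, 2, 1, 2, 3, 2, 3, 2, 1, 2, 3, 2, 3, 2, 1, 3, 2, 3, 2, 3, 2, 1, 2, 3]) = true := by decide +kernel

theorem rot2_29 : T.rot 2 [1, 2, 3, 2, 3, 2, 1, 2, 3, 2, 3, 2, 1, 3, 2, 3, 2, 3, 2, 1, 2, 3, 2, 3] (sel (ones 1440) ip2 29) = true := by decide +kernel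

theorem rot2_29r : band (Rule.ok (2 * 3) EX RL ⟨2 :: [1, 2, 3, 2, 3, 2, 1, 2, 3, 2, 3, 2, 1, 3, 2, 3, 2, 3, 2, 1, 2, 3, 2, 3], [2], 2, true⟩) (lall (memL L) [1, 2, 3, 2, 3, 2, 1, 2, 3, 2, 3, 2, 1, 3, 2, 3, 2, 3, 2, 1, 2, 3, 2, 3]) = true := by decide +kernel

theorem rot2_30 : T.rot 2 [3, 2, 1, 2, 3, 2, 3, 2, 3, 1, 2, 3, 2, 3, 2, 1, 2, 3, 2, 3, 2, 1, 2, 3] (sel (ones 1440) ip2 30) = true := by decide +kernel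

theorem rot2_30r : band (Rule.ok (2 * 3) EX RL ⟨2 :: [3, 2, 1, 2, 3, 2, 3, 2, 3, 1, 2, 3, 2, 3, 2, 1, 2, 3, 2, 3, 2, 1, 2, 3], [2, 4], 2, false⟩) (lall (memL L) [3, 2, 1, 2, 3, 2, 3, 2, 3, 1, 2, 3, 2, 3, 2, 1, 2, 3, 2, 3, 2, 1, 2, 3]) = true := by decide +kernel

theorem rot2_31 : T.rot 2 [1, 2, 3, 2, 3, 2, 3, 1, 2, 3, 2, 3, 2, 1, 2, 3, 2, 3, 2, 1, 2, 3, 2, 3] (sel (ones 1440) ip2 31) = true := by decide +kernel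

theorem rot2_31r : band (Rule.ok (2 * 3) EX RL ⟨2 :: [1, 2, 3, 2, 3, 2, 3, 1, 2, 3, 2, 3, 2, 1, 2, 3, 2, 3, 2, 1, 2, 3, 2, 3], [2, 4, 2, 4], 2, false⟩) (lall (memL L) [1, 2, 3, 2, 3, 2, 3, 1, 2, 3, 2, 3, 2, 1, 2, 3, 2, 3, 2, 1, 2, 3, 2, 3]) = true := by decide +kernel

theorem rot2_32 : T.rot 2 [3, 2, 3, 2, 3, 1, 2, 3, 2, 3, 2, 1, 2, 3, 2, 3, 2, 1, 2, 3, 2, 3, 2, 1] (sel (ones 1440) ip2 32) = true := by decide +kernel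

theorem rot2_32r : band (Rule.ok (2 * 3) EX RL ⟨2 :: [3, 2, 3, 2, 3, 1, 2, 3, 2, 3, 2, 1, 2, 3, 2, 3, 2, 1, 2, 3, 2, 3, 2, 1], [2, 4, 2, 4, 2, 0], 2, false⟩) (lall (memL L) [3, 2, 3, 2, 3, 1, 2, 3, 2, 3, 2, 1, 2, 3, 2, 3, 2, 1, 2, 3, 2, 3, 2, 1]) = true := by decide +kernel

theorem rot2_33 : T.rot 2 [3, 2, 3, 1, 2, 3, 2, 3, 2, 1, 2, 3, 2, 3, 2, 1, 2, 3, 2, 3, 2, 1, 2, 3] (sel (ones 1440) ip2 33) = true := by decide +kernel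

theorem rot2_33r : band (Rule.ok (2 * 3) EX RL ⟨2 :: [3, 2, 3, 1, 2, 3, 2, 3, 2, 1, 2, 3, 2, 3, 2, 1, 2, 3, 2, 3, 2, 1, 2, 3], [2, 4, 2, 4, 2, 0, 2, 4], 2, false⟩) (lall (memL L) [3, 2, 3, 1, 2, 3, 2, 3, 2, 1, 2, 3, 2, 3, 2, 1, 2, 3, 2, 3, 2, 1, 2, 3]) = true := by decide +kernel

theorem rot2_34 : T.rot 2 [3, 1, 2, 3, 2, 3, 2, 1, 2, 3, 2, 3, 2, 1, 2, 3, 2, 3, 2, 1, 2, 3, 2, 3] (sel (ones 1440) ip2 34) = true := by decide +kernel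

theorem rot2_34r : band (Rule.ok (2 * 3) EX RL ⟨2 :: [3, 1, 2, 3, 2, 3, 2, 1, 2, 3, 2, 3, 2, 1, 2, 3, 2, 3, 2, 1, 2, 3, 2, 3], [2, 4, 2, 4, 2, 0, 2, 4, 2, 4], 2, false⟩) (lall (memL L) [3, 1, 2, 3, 2, 3, 2, 1, 2, 3, 2, 3, 2, 1, 2, 3, 2, 3, 2, 1, 2, 3, 2, 3]) = true := by decide +kernel

theorem rot2_35 : T.rot 2 [3, 2, 3, 2, 1, 2, 3, 2, 3, 2, 1, 2, 3, 2, 3, 2, 1, 2, 3, 2, 3, 2, 3, 1] (sel (ones 1440) ip2 35) = true := by decide +kernel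

theorem rot2_35r : band (Rule.ok (2 * 3) EX RL ⟨2 :: [3, 2, 3, 2, 1, 2, 3, 2, 3, 2, 1, 2, 3, 2, 3, 2, 1, 2, 3, 2, 3, 2, 3, 1], [0, 2, 4, 2, 4, 2, 0, 2, 4, 2, 4, 2], 2, false⟩) (lall (memL L) [3, 2, 3, 2, 1, 2, 3, 2, 3, 2, 1, 2, 3, 2, 3, 2, 1, 2, 3, 2, 3, 2, 3, 1]) = true := by decide +kernel

theorem rot2_36 : T.rot 2 [1, 2, 3, 2, 3, 2, 1, 2, 3, 2, 3, 2, 1, 2, 3, 2, 3, 2, 3, 1, 2, 3, 2, 3] (sel (ones 1440) ip2 36) = true := by decide +kernel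

theorem rot2_36r : band (Rule.ok (2 * 3) EX RL ⟨2 :: [1, 2, 3, 2, 3, 2, 1, 2, 3, 2, 3, 2, 1, 2, 3, 2, 3, 2, 3, 1, 2, 3, 2, 3], [0, 2, 4, 2, 4, 2, 0, 2], 2, false⟩) (lall (memL L) [1, 2, 3, 2, 3, 2, 1, 2, 3, 2, 3, 2, 1, 2, 3, 2, 3, 2, 3, 1, 2, 3, 2, 3]) = true := by decide +kernel

theorem cov2 : T.cover 2 [(sel (ones 1440) ip2 1), (sel (ones 1440) ip2 2), (sel (ones 1440) ip2 3), (sel (ones 1440) ip2 4), (sel (ones 1440) ip2 5), (sel (ones 1440) ip2 6), (sel (ones 1440) ip2 7), (sel (ones 1440) ip2 8), (sel (ones 1440) ip2 9), (sel (ones 1440) ip2 10), (sel (ones 1440) ip2 11), (sel (ones 1440) ip2 12), (sel (ones 1440) ip2 13), (sel (ones 1440) ip2 14), (sel (ones 1440) ip2 15), (sel (ones 1440) ip2 16), (sel (ones 1440) ip2 17), (sel (ones 1440) ip2 18), (sel (ones 1440)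 ip2 19), (sel (ones 1440) ip2 20), (sel (ones 1440) ip2 21), (sel (ones 1440) ip2 22), (sel (ones 1440) ip2 23), (sel (ones 1440) ip2 24), (sel (ones 1440) ip2 25), (sel (ones 1440) ip2 26), (sel (ones 1440) ip2 27), (sel (ones 1440) ip2 28), (sel (ones 1440) ip2 29), (sel (ones 1440) ip2 30), (sel (ones 1440) ip2 31), (sel (ones 1440) ip2 32), (sel (ones 1440) ip2 33), (sel (ones 1440) ip2 34), (sel (ones 1440) ip2 35), (sel (ones 1440) ip2 36)] = true := by decide +kernel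

theorem tl2 : T.treeLt 11 2 = true := by decide +kernel

theorem rot3_1 : T.rot 3 [3] (sel (ones 1440) ip3 1) = true := by decide +kernel

theorem rot3_1r : band (Rule.ok (2 * 3) EX RL ⟨3 :: [3], [], 4, false⟩) (lall (memL L) [3]) = true := by decide +kernel

theorem rot3_2 : T.rot 3 [1, 3, 1] (sel (ones 1440) ip3 2) = true := by decide +kernel

theorem rot3_2r : band (Rule.ok (2 * 3) EX RL ⟨3 :: [1, 3, 1], [], 0, false⟩) (lall (memL L) [1, 3, 1]) = true := by decide +kernel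

theorem rot3_3 : T.rot 3 [2, 1, 2, 3, 2, 1, 2, 3, 2, 1, 2, 3, 2, 1, 2, 3, 1, 2, 1, 2] (sel (ones 1440) ip3 3) = true := by decide +kernel

theorem rot3_3r : band (Rule.ok (2 * 3) EX RL ⟨3 :: [2, 1, 2, 3, 2, 1, 2, 3, 2, 1, 2, 3, 2, 1, 2, 3, 1, 2, 1, 2], [0, 2, 0, 2], 3, true⟩) (lall (memL L) [2, 1, 2, 3, 2, 1, 2, 3, 2, 1, 2, 3, 2, 1, 2, 3, 1, 2, 1, 2]) = true := by decide +kernel

theorem rot3_4 : T.rot 3 [2, 1, 2, 3, 2, 1, 2, 3, 2, 1, 2, 3, 1, 2, 1, 2, 3, 2, 1, 2] (sel (ones 1440) ip3 4) = true := by decide +kernel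

theorem rot3_4r : band (Rule.ok (2 * 3) EX RL ⟨3 :: [2, 1, 2, 3, 2, 1, 2, 3, 2, 1, 2, 3, 1, 2, 1, 2, 3, 2, 1, 2], [0, 2, 0, 2, 4, 2, 0, 2], 3, true⟩) (lall (memL L) [2, 1, 2, 3, 2, 1, 2, 3, 2, 1, 2, 3, 1, 2, 1, 2, 3, 2, 1, 2]) = true := by decide +kernel

theorem rot3_5 : T.rot 3 [2, 1, 2, 3, 2, 1, 2, 3, 1, 2, 1, 2, 3, 2, 1, 2, 3, 2, 1, 2] (sel (ones 1440) ip3 5) = true := by decide +kernel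

theorem rot3_5r : band (Rule.ok (2 * 3) EX RL ⟨3 :: [2, 1, 2, 3, 2, 1, 2, 3, 1, 2, 1, 2, 3, 2, 1, 2, 3, 2, 1, 2], [4, 2, 0, 2, 4, 2, 0, 2, 4], 3, true⟩) (lall (memL L) [2, 1, 2, 3, 2, 1, 2, 3, 1, 2, 1, 2, 3, 2, 1, 2, 3, 2, 1, 2]) = true := by decide +kernel

theorem rot3_6 : T.rot 3 [2, 1, 2, 3, 1, 2, 1, 2, 3, 2, 1, 2, 3, 2, 1, 2, 3, 2, 1, 2] (sel (ones 1440) ip3 6) = true := by decide +kernel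

theorem rot3_6r : band (Rule.ok (2 * 3) EX RL ⟨3 :: [2, 1, 2, 3, 1, 2, 1, 2, 3, 2, 1, 2, 3, 2, 1, 2, 3, 2, 1, 2], [4, 2, 0, 2, 4], 3, true⟩) (lall (memL L) [2, 1, 2, 3, 1, 2, 1, 2, 3, 2, 1, 2, 3, 2, 1, 2, 3, 2, 1, 2]) = true := by decide +kernel

theorem rot3_7 : T.rot 3 [1, 2, 1, 2, 3, 2, 1, 2, 3, 2, 1, 2, 3, 2, 1, 2, 3, 2, 1, 2] (sel (ones 1440) ip3 7) = true := by decide +kernel

theorem rot3_7r : band (Rule.ok (2 * 3) EX RL ⟨3 :: [1, 2, 1, 2, 3, 2, 1, 2, 3, 2, 1, 2, 3, 2, 1, 2, 3, 2, 1, 2], [4], 3, true⟩) (lall (memL L) [1, 2, 1, 2, 3, 2, 1, 2, 3, 2, 1, 2, 3, 2, 1, 2, 3, 2, 1, 2]) = true := by decide +kernel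

theorem rot3_8 : T.rot 3 [2, 1, 2, 3, 2, 1, 2, 3, 2, 1, 2, 3, 2, 1, 2, 3, 2, 1, 2, 1] (sel (ones 1440) ip3 8) = true := by decide +kernel

theorem rot3_8r : band (Rule.ok (2 * 3) EX RL ⟨3 :: [2, 1, 2, 3, 2, 1, 2, 3, 2, 1, 2, 3, 2, 1, 2, 3, 2, 1, 2, 1], [], 3, false⟩) (lall (memL L) [2, 1, 2, 3, 2, 1, 2, 3, 2, 1, 2, 3, 2, 1, 2, 3, 2, 1, 2, 1]) = true := by decide +kernel

theorem rot3_9 : T.rot 3 [2, 1, 2, 3, 2, 1, 2, 3, 2, 1, 2, 1, 3, 2, 1, 2, 3, 2, 1, 2] (sel (ones 1440) ip3 9) = true := by decide +kernel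

theorem rot3_9r : band (Rule.ok (2 * 3) EX RL ⟨3 :: [2, 1, 2, 3, 2, 1, 2, 3, 2, 1, 2, 1, 3, 2, 1, 2, 3, 2, 1, 2], [4, 2, 0, 2, 4, 2, 0, 2], 3, false⟩) (lall (memL L) [2, 1, 2, 3, 2, 1, 2, 3, 2, 1, 2, 1, 3, 2, 1, 2, 3, 2, 1, 2]) = true := by decide +kernel

theorem rot3_10 : T.rot 3 [2, 1, 2, 1, 3, 2, 1, 2, 3, 2, 1, 2, 3, 2, 1, 2, 3, 2, 1, 2] (sel (ones 1440) ip3 10) = true := by decide +kernel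

theorem rot3_10r : band (Rule.ok (2 * 3) EX RL ⟨3 :: [2, 1, 2, 1, 3, 2, 1, 2, 3, 2, 1, 2, 3, 2, 1, 2, 3, 2, 1, 2], [0, 2, 0, 2, 4], 3, false⟩) (lall (memL L) [2, 1, 2, 1, 3, 2, 1, 2, 3, 2, 1, 2, 3, 2, 1, 2, 3, 2, 1, 2]) = true := by decide +kernel

theorem rot3_11 : T.rot 3 [2, 3, 2, 1, 2, 3, 2, 3, 2, 1, 3, 2, 3, 2, 3, 2, 1, 2, 3, 2, 3, 2, 1, 2] (sel (ones 1440) ip3 11) = true := by decide +kernel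

theorem rot3_11r : band (Rule.ok (2 * 3) EX RL ⟨3 :: [2, 3, 2, 1, 2, 3, 2, 3, 2, 1, 3, 2, 3, 2, 3, 2, 1, 2, 3, 2, 3, 2, 1, 2], [0, 2], 2, true⟩) (lall (memL L) [2, 3, 2, 1, 2, 3, 2, 3, 2, 1, 3, 2, 3, 2, 3, 2, 1, 2, 3, 2, 3, 2, 1, 2]) = true := by decide +kernel

theorem rot3_12 : T.rot 3 [2, 1, 2, 3, 2, 3, 2, 1, 3, 2, 3, 2, 3, 2, 1, 2, 3, 2, 3, 2, 1, 2, 3, 2] (sel (ones 1440) ip3 12) = true := by decide +kernel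

theorem rot3_12r : band (Rule.ok (2 * 3) EX RL ⟨3 :: [2, 1, 2, 3, 2, 3, 2, 1, 3, 2, 3, 2, 3, 2, 1, 2, 3, 2, 3, 2, 1, 2, 3, 2], [0, 2, 4, 2], 2, true⟩) (lall (memL L) [2, 1, 2, 3, 2, 3, 2, 1, 3, 2, 3, 2, 3, 2, 1, 2, 3, 2, 3, 2, 1, 2, 3, 2]) = true := by decide +kernel

theorem rot3_13 : T.rot 3 [2, 3, 2, 1, 3, 2, 3, 2, 3, 2, 1, 2, 3, 2, 3, 2, 1, 2, 3, 2, 3, 2, 1, 2] (sel (ones 1440) ip3 13) = true := by decide +kernel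

theorem rot3_13r : band (Rule.ok (2 * 3) EX RL ⟨3 :: [2, 3, 2, 1, 3, 2, 3, 2, 3, 2, 1, 2, 3, 2, 3, 2, 1, 2, 3, 2, 3, 2, 1, 2], [0, 2, 4, 2, 4, 2, 0, 2], 2, true⟩) (lall (memL L) [2, 3, 2, 1, 3, 2, 3, 2, 3, 2, 1, 2, 3, 2, 3, 2, 1, 2, 3, 2, 3, 2, 1, 2]) = true := by decide +kernel

theorem rot3_14 : T.rot 3 [2, 1, 3, 2, 3, 2, 3, 2, 1, 2, 3, 2, 3, 2, 1, 2, 3, 2, 3, 2, 1, 2, 3, 2] (sel (ones 1440) ip3 14) = true := by decide +kernel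

theorem rot3_14r : band (Rule.ok (2 * 3) EX RL ⟨3 :: [2, 1, 3, 2, 3, 2, 3, 2, 1, 2, 3, 2, 3, 2, 1, 2, 3, 2, 3, 2, 1, 2, 3, 2], [0, 2, 4, 2, 4, 2, 0, 2, 4, 2], 2, true⟩) (lall (memL L) [2, 1, 3, 2, 3, 2, 3, 2, 1, 2, 3, 2, 3, 2, 1, 2, 3, 2, 3, 2, 1, 2, 3, 2]) = true := by decide +kernel

theorem rot3_15 : T.rot 3 [2, 3, 2, 3, 2, 1, 2, 3, 2, 3, 2, 1, 2, 3, 2, 3, 2, 1, 2, 3, 2, 3, 2, 1] (sel (ones 1440) ip3 15) = true := by decide +kernel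

theorem rot3_15r : band (Rule.ok (2 * 3) EX RL ⟨3 :: [2, 3, 2, 3, 2, 1, 2, 3, 2, 3, 2, 1, 2, 3, 2, 3, 2, 1, 2, 3, 2, 3, 2, 1], [2, 4, 2, 4, 2, 0, 2, 4, 2, 4, 2, 4], 2, true⟩) (lall (memL L) [2, 3, 2, 3, 2, 1, 2, 3, 2, 3, 2, 1, 2, 3, 2, 3, 2, 1, 2, 3, 2, 3, 2, 1]) = true := by decide +kernel

theorem rot3_16 : T.rot 3 [2, 3, 2, 1, 2, 3, 2, 3, 2, 1, 2, 3, 2, 3, 2, 1, 2, 3, 2, 3, 2, 1, 3, 2] (sel (ones 1440) ip3 16) = true := by decide +kernel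

theorem rot3_16r : band (Rule.ok (2 * 3) EX RL ⟨3 :: [2, 3, 2, 1, 2, 3, 2, 3, 2, 1, 2, 3, 2, 3, 2, 1, 2, 3, 2, 3, 2, 1, 3, 2], [2, 4, 2, 4, 2, 0, 2, 4, 2, 4], 2, true⟩) (lall (memL L) [2, 3, 2, 1, 2, 3, 2, 3, 2, 1, 2, 3, 2, 3, 2, 1, 2, 3, 2, 3, 2, 1, 3, 2]) = true := by decide +kernel

theorem rot3_17 : T.rot 3 [2, 1, 2, 3, 2, 3, 2, 1, 2, 3, 2, 3, 2, 1, 2, 3, 2, 3, 2, 1, 3, 2, 3, 2] (sel (ones 1440) ip3 17) = true := by decide +kernel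

theorem rot3_17r : band (Rule.ok (2 * 3) EX RL ⟨3 :: [2, 1, 2, 3, 2, 3, 2, 1, 2, 3, 2, 3, 2, 1, 2, 3, 2, 3, 2, 1, 3, 2, 3, 2], [2, 4, 2, 4, 2, 0, 2, 4], 2, true⟩) (lall (memL L) [2, 1, 2, 3, 2, 3, 2, 1, 2, 3, 2, 3, 2, 1, 2, 3, 2, 3, 2, 1, 3, 2, 3, 2]) = true := by decide +kernel

theorem rot3_18 : T.rot 3 [2, 3, 2, 1, 2, 3, 2, 3, 2, 1, 2, 3, 2, 3, 2, 1, 3, 2, 3, 2, 3, 2, 1, 2] (sel (ones 1440) ip3 18) = true := by decide +kernel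

theorem rot3_18r : band (Rule.ok (2 * 3) EX RL ⟨3 :: [2, 3, 2, 1, 2, 3, 2, 3, 2, 1, 2, 3, 2, 3, 2, 1, 3, 2, 3, 2, 3, 2, 1, 2], [2, 4, 2, 4], 2, true⟩) (lall (memL L) [2, 3, 2, 1, 2, 3, 2, 3, 2, 1, 2, 3, 2, 3, 2, 1, 3, 2, 3, 2, 3, 2, 1, 2]) = true := by decide +kernel

theorem rot3_19 : T.rot 3 [2, 1, 2, 3, 2, 3, 2, 1, 2, 3, 2, 3, 2, 1, 3, 2, 3, 2, 3, 2, 1, 2, 3, 2] (sel (ones 1440) ip3 19) = true := by decide +kernel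

theorem rot3_19r : band (Rule.ok (2 * 3) EX RL ⟨3 :: [2, 1, 2, 3, 2, 3, 2, 1, 2, 3, 2, 3, 2, 1, 3, 2, 3, 2, 3, 2, 1, 2, 3, 2], [2, 4], 2, true⟩) (lall (memL L) [2, 1, 2, 3, 2, 3, 2, 1, 2, 3, 2, 3, 2, 1, 3, 2, 3, 2, 3, 2, 1, 2, 3, 2]) = true := by decide +kernel

theorem rot3_20 : T.rot 3 [2, 3, 2, 3, 1, 2, 3, 2, 3, 2, 1, 2, 3, 2, 3, 2, 1, 2, 3, 2, 3, 2, 1, 2] (sel (ones 1440) ip3 20) = true := by decide +kernel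

theorem rot3_20r : band (Rule.ok (2 * 3) EX RL ⟨3 :: [2, 3, 2, 3, 1, 2, 3, 2, 3, 2, 1, 2, 3, 2, 3, 2, 1, 2, 3, 2, 3, 2, 1, 2], [2, 4, 2, 4, 2, 0, 2], 2, false⟩) (lall (memL L) [2, 3, 2, 3, 1, 2, 3, 2, 3, 2, 1, 2, 3, 2, 3, 2, 1, 2, 3, 2, 3, 2, 1, 2]) = true := by decide +kernel

theorem rot3_21 : T.rot 3 [2, 3, 1, 2, 3, 2, 3, 2, 1, 2, 3, 2, 3, 2, 1, 2, 3, 2, 3, 2, 1, 2, 3, 2] (sel (ones 1440) ip3 21) = true := by decide +kernel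

theorem rot3_21r : band (Rule.ok (2 * 3) EX RL ⟨3 :: [2, 3, 1, 2, 3, 2, 3, 2, 1, 2, 3, 2, 3, 2, 1, 2, 3, 2, 3, 2, 1, 2, 3, 2], [2, 4, 2, 4, 2, 0, 2, 4, 2], 2, false⟩) (lall (memL L) [2, 3, 1, 2, 3, 2, 3, 2, 1, 2, 3, 2, 3, 2, 1, 2, 3, 2, 3, 2, 1, 2, 3, 2]) = true := by decide +kernel

theorem rot3_22 : T.rot 3 [1, 2, 3, 2, 3, 2, 1, 2, 3, 2, 3, 2, 1, 2, 3, 2, 3, 2, 1, 2, 3, 2, 3, 2] (sel (ones 1440) ip3 22) = true := by decide +kernel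

theorem rot3_22r : band (Rule.ok (2 * 3) EX RL ⟨3 :: [1, 2, 3, 2, 3, 2, 1, 2, 3, 2, 3, 2, 1, 2, 3, 2, 3, 2, 1, 2, 3, 2, 3, 2], [2, 4, 2, 4, 2, 0, 2, 4, 2, 4, 2], 2, false⟩) (lall (memL L) [1, 2, 3, 2, 3, 2, 1, 2, 3, 2, 3, 2, 1, 2, 3, 2, 3, 2, 1, 2, 3, 2, 3, 2]) = true := by decide +kernel

theorem cov3 : T.cover 3 [(sel (ones 1440) ip3 1), (sel (ones 1440) ip3 2), (sel (ones 1440) ip3 3), (sel (ones 1440) ip3 4), (sel (ones 1440) ip3 5), (sel (ones 1440) ip3 6), (sel (ones 1440) ip3 7), (sel (ones 1440) ip3 8), (sel (ones 1440) ip3 9), (sel (ones 1440) ip3 10), (sel (ones 1440) ip3 11), (sel (ones 1440) ip3 12), (sel (ones 1440) ip3 13), (sel (ones 1440) ip3 14), (sel (ones 1440) ip3 15), (sel (ones 1440) ip3 16), (sel (ones 1440) ip3 17), (sel (ones 1440) ip3 18), (sel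 (ones 1440) ip3 19), (sel (ones 1440) ip3 20), (sel (ones 1440) ip3 21), (sel (ones 1440) ip3 22)] = true := by decide +kernel

theorem tl3 : T.treeLt 11 3 = true := by decide +kernel

end Cfsg.Agent.Spor.HSpc
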